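import Mathlib
import Cfsg.Agent.H613.KS.Defs

/-!
# S4577: the three `y`-orbits on `D ∖ {1}` (helper196)
-/

set_option autoImplicit false

open Cfsg

namespace Cfsg.Agent.H196.KS

open Cfsg.Agent.H613.KS

variable {K : Type*} [Group K]

theorem comm_of {D : Subgroup K} (h : E16 D) {a b : K} (ha : a ∈ D) (hb : b ∈ D) : a * b = b * a := by
  have h2 : a⁻¹ = a := by rw [inv_eq_iff_mul_eq_one]; exact h.inv a ha
  have h3 : b⁻¹ = b := by rw [inv_eq_iff_mul_eq_one]; exact h.inv b hb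
  calc a * b = (a * b)⁻¹ := by rw [eq_inv_iff_mul_eq_one]; exact h.inv _ (mul_mem ha hb)
    _ = b * a := by rw [mul_inv_rev, h2, h3]

/-- conjugation by `y` as an automorphism of `D` -/
noncomputable def cj {D : Subgroup K} {y : K} (hy : ∀ d : K, y * d * y⁻¹ ∈ D ↔ d ∈ D) : Equiv.Perm D where
  toFun d := ⟨y * d * y⁻¹, (hy d).2 d.2⟩
  invFun d := ⟨y⁻¹ * d * y, (hy _).1 (by
    have : y * (y⁻¹ * (d : K) * y) * y⁻¹ = d := by group
    rw [this]; exact d.2)⟩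
  left_inv d := by
    apply Subtype.ext
    show y⁻¹ * (y * (d : K) * y⁻¹) * y = d
    group
  right_inv d := by
    apply Subtype.ext
    show y * (y⁻¹ * (d : K) * y) * y⁻¹ = d
    group

theorem cj_pow {D : Subgroup K} {y : K} (hy : ∀ d : K, y * d * y⁻¹ ∈ D ↔ d ∈ D) (i : ℕ) (d : D) :
    (((cj hy) ^ i) d : K) = y ^ i * d * (y ^ i)⁻¹ := by
  induction i generalizing d with
  | zero => simp
  | succ i ih =>
    rw [pow_succ, Equiv.Perm.mul_apply, ih]
    show y ^ i * (y * (d : K) * y⁻¹) * (y ^ i)⁻¹ = _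
    rw [pow_succ]
    group

/-- powers of `y` normalise `D` -/
theorem conj_mem {D : Subgroup K} {y : K} (hy : ∀ d : K, y * d * y⁻¹ ∈ D ↔ d ∈ D) (i : ℕ) {d : K} (hd : d ∈ D) :
    y ^ i * d * (y ^ i)⁻¹ ∈ D := by
  rw [← cj_pow hy i ⟨d, hd⟩]
  exact Subtype.prop _

/-- **the three orbits of `y` on `D ∖ {1}`** -/
theorem orbits {D : Subgroup K} (h : E16 D) {y : K} (hy : ∀ d : K, y * d * y⁻¹ ∈ D ↔ d ∈ D)
    (h5 : ∀ d ∈ D, y ^ 5 * d = d * y ^ 5) (hf : ∀ d ∈ D, d ≠ 1 → y * d ≠ d * y) {d1 : K} (hd1 : d1 ∈ D)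
    (hn1 : d1 ≠ 1) : ∃ d2 ∈ D, ∃ d3 ∈ D, d2 ≠ 1 ∧ d3 ≠ 1 ∧
      (∀ i : ℕ, d2 ≠ y ^ i * d1 * (y ^ i)⁻¹) ∧ (∀ i : ℕ, d3 ≠ y ^ i * d1 * (y ^ i)⁻¹) ∧
      (∀ i : ℕ, d3 ≠ y ^ i * d2 * (y ^ i)⁻¹) ∧
      ∀ d ∈ D, d ≠ 1 → (∃ i : ℕ, d = y ^ i * d1 * (y ^ i)⁻¹) ∨ (∃ i : ℕ, d = y ^ i * d2 * (y ^ i)⁻¹) ∨
        ∃ i : ℕ, d = y ^ i * d3 * (y ^ i)⁻¹ := by
  classical
  have hfin : Finite D := Nat.finite_of_card_ne_zero (by rw [h.card]; norm_num)
  have := Fintype.ofFinite D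
  -- orbits
  have hper : ∀ d ∈ D, ∀ i : ℕ, y ^ i * d * (y ^ i)⁻¹ = y ^ (i % 5) * d * (y ^ (i % 5))⁻¹ := by
    intro d hd i
    have hc : ∀ j : ℕ, ∀ e ∈ D, (y ^ 5) ^ j * e = e * (y ^ 5) ^ j := by
      intro j e he
      have h1 : Commute (y ^ 5) e := h5 e he
      exact (h1.pow_left j)
    conv_lhs => rw [← Nat.div_add_mod i 5, pow_add, pow_mul]
    have h1 := hc (i / 5) _ (conj_mem hy (i % 5) hd)
    calc (y ^ 5) ^ (i / 5) * y ^ (i % 5) * d * ((y ^ 5) ^ (i / 5) * y ^ (i % 5))⁻¹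
        = (y ^ 5) ^ (i / 5) * (y ^ (i % 5) * d * (y ^ (i % 5))⁻¹) * ((y ^ 5) ^ (i / 5))⁻¹ := by group
      _ = _ := by rw [h1, mul_inv_cancel_right]
  have hinj : ∀ d ∈ D, d ≠ 1 → ∀ i < 5, ∀ j < 5, y ^ i * d * (y ^ i)⁻¹ = y ^ j * d * (y ^ j)⁻¹ → i = j := by
    -- an element commuting with `y ^ r`, `r` prime to 5, commutes with `y`
    have key : ∀ d ∈ D, d ≠ 1 → ∀ r, 0 < r → r < 5 → y ^ r * d ≠ d * y ^ r := by
      intro d hd hd1 r hr0 hr5 hc
      have h1 : Commute (y ^ r) d := hc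
      have h2 : Commute (y ^ 5) d := h5 d hd
      apply hf d hd hd1
      show Commute y d
      interval_cases r
      · simpa using h1
      · have h3 : y = y ^ 5 * ((y ^ 2) ^ 2)⁻¹ := by
          rw [← pow_mul, show 5 = 1 + 2 * 2 by norm_num, pow_add, pow_one, mul_inv_cancel_right]
        rw [h3]
        exact h2.mul_left ((h1.pow_left 2).inv_left)
      · have h3 : y = (y ^ 3) ^ 2 * (y ^ 5)⁻¹ := by
          rw [← pow_mul, show 3 * 2 = 1 + 5 by norm_num, pow_add, pow_one, mul_inv_cancel_right]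
        rw [h3]
        exact (h1.pow_left 2).mul_left h2.inv_left
      · have h3 : y = y ^ 5 * (y ^ 4)⁻¹ := by
          rw [show 5 = 1 + 4 by norm_num, pow_add, pow_one, mul_inv_cancel_right]
        rw [h3]
        exact h2.mul_left h1.inv_left
    have main : ∀ d ∈ D, d ≠ 1 → ∀ i < 5, ∀ j < 5, i < j → y ^ i * d * (y ^ i)⁻¹ ≠ y ^ j * d * (y ^ j)⁻¹ := by
      intro d hd hd1 i hi j hj hij he
      refine key d hd hd1 (j - i) (by omega) (by omega) ?_
      have h1 : y ^ j = y ^ i * y ^ (j - i) := by rw [← pow_add]; congr 1; omega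
      rw [h1] at he
      have h2 : d = y ^ (j - i) * d * (y ^ (j - i))⁻¹ := by
        have h3 : y ^ i * y ^ (j - i) * d * (y ^ i * y ^ (j - i))⁻¹ =
            y ^ i * (y ^ (j - i) * d * (y ^ (j - i))⁻¹) * (y ^ i)⁻¹ := by group
        rw [h3] at he
        exact mul_left_cancel (mul_right_cancel he)
      conv_rhs => rw [h2]
      group
    intro d hd hd1 i hi j hj he
    rcases lt_trichotomy i j with h1 | h1 | h1
    · exact (main d hd hd1 i hi j hj h1 he).elim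
    · exact h1
    · exact (main d hd hd1 j hj i hi h1 he.symm).elim
  let O : D → Finset D := fun d => (Finset.range 5).image fun i => ((cj hy) ^ i) d
  have hO : ∀ d e : D, e ∈ O d ↔ ∃ i : ℕ, (e : K) = y ^ i * d * (y ^ i)⁻¹ := by
    intro d e
    simp only [O, Finset.mem_image, Finset.mem_range]
    constructor
    · rintro ⟨i, -, rfl⟩
      exact ⟨i, cj_pow hy i d⟩
    · rintro ⟨i, hi⟩
      refine ⟨i % 5, Nat.mod_lt _ (by norm_num), ?_⟩
      apply Subtype.ext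
      rw [cj_pow, ← hper d d.2, hi]
  have hOc : ∀ d : D, (d : K) ≠ 1 → (O d).card = 5 := by
    intro d hd
    show ((Finset.range 5).image fun i => ((cj hy) ^ i) d).card = 5
    rw [Finset.card_image_of_injOn, Finset.card_range]
    intro i hi j hj he
    rw [Finset.mem_coe, Finset.mem_range] at hi hj
    have h1 : (((cj hy) ^ i) d : K) = (((cj hy) ^ j) d : K) := by
      have : ((cj hy) ^ i) d = ((cj hy) ^ j) d := he
      rw [this]
    rw [cj_pow, cj_pow] at h1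
    exact hinj d d.2 hd i hi j hj h1
  have hO1 : ∀ d : D, (d : K) ≠ 1 → (1 : D) ∉ O d := by
    intro d hd h1
    obtain ⟨i, hi⟩ := (hO d 1).1 h1
    apply hd
    have h2 : (d : K) = (y ^ i)⁻¹ * (y ^ i * d * (y ^ i)⁻¹) * y ^ i := by group
    rw [h2, ← hi]
    simp
  -- disjointness of orbits
  have hdis : ∀ d e : D, e ∉ O d → Disjoint (O d) (O e) := by
    intro d e he
    rw [Finset.disjoint_left]
    intro a ha hb
    apply he
    obtain ⟨i, hi⟩ := (hO d a).1 ha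
    obtain ⟨j, hj⟩ := (hO e a).1 hb
    rw [hO]
    -- `e = y^{-j} a y^j = y^{i - j} d ..`
    refine ⟨i + 4 * j, ?_⟩
    have h1 : (e : K) = y ^ (4 * j) * (y ^ j * e * (y ^ j)⁻¹) * (y ^ (4 * j))⁻¹ := by
      have h2 := hper e e.2 (4 * j + j)
      have h3 : (4 * j + j) % 5 = 0 := by omega
      rw [h3, pow_zero, one_mul, inv_one, mul_one] at h2
      conv_lhs => rw [← h2, pow_add]
      group
    rw [h1, ← hj, hi]
    have h4 : y ^ (4 * j) * (y ^ i * (d : K) * (y ^ i)⁻¹) * (y ^ (4 * j))⁻¹ =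
        (y ^ (4 * j) * y ^ i) * d * (y ^ (4 * j) * y ^ i)⁻¹ := by group
    rw [h4, ← pow_add, add_comm (4 * j) i]
  have hcard : Fintype.card D = 16 := by rw [← Nat.card_eq_fintype_card, h.card]
  have hex : ∀ S : Finset D, S.card < 16 → ∃ e : D, e ∉ S := by
    intro S hS
    by_contra hc
    push Not at hc
    have : S = Finset.univ := Finset.eq_univ_iff_forall.2 hc
    rw [this, Finset.card_univ, hcard] at hS
    omega
  set e1 : D := ⟨d1, hd1⟩ with he1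
  have hc1 := hOc e1 hn1
  obtain ⟨e2, he2⟩ := hex (insert 1 (O e1)) (by
    refine lt_of_le_of_lt (Finset.card_insert_le _ _) ?_
    omega)
  rw [Finset.mem_insert, not_or] at he2
  have hn2 : (e2 : K) ≠ 1 := fun h1 => he2.1 (Subtype.ext h1)
  have hc2 := hOc e2 hn2
  obtain ⟨e3, he3⟩ := hex (insert 1 (O e1 ∪ O e2)) (by
    refine lt_of_le_of_lt (Finset.card_insert_le _ _) ?_
    have := Finset.card_union_le (O e1) (O e2)
    omega)
  rw [Finset.mem_insert, not_or, Finset.mem_union, not_or] at he3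
  have hn3 : (e3 : K) ≠ 1 := fun h1 => he3.1 (Subtype.ext h1)
  have hc3 := hOc e3 hn3
  have hd12 := hdis e1 e2 he2.2
  have hd13 := hdis e1 e3 he3.2.1
  have hd23 := hdis e2 e3 he3.2.2
  have hun : insert 1 (O e1 ∪ O e2 ∪ O e3) = Finset.univ := by
    apply Finset.eq_univ_of_card
    rw [hcard, Finset.card_insert_of_notMem, Finset.card_union_of_disjoint, Finset.card_union_of_disjoint hd12, hc1,
      hc2, hc3]
    · rw [Finset.disjoint_union_left]
      exact ⟨hd13, hd23⟩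
    · rw [Finset.mem_union, Finset.mem_union, not_or, not_or]
      exact ⟨⟨hO1 e1 hn1, hO1 e2 hn2⟩, hO1 e3 hn3⟩
  refine ⟨e2, e2.2, e3, e3.2, hn2, hn3, ?_, ?_, ?_, ?_⟩
  · intro i hi
    exact he2.2 ((hO e1 e2).2 ⟨i, hi⟩)
  · intro i hi
    exact he3.2.1 ((hO e1 e3).2 ⟨i, hi⟩)
  · intro i hi
    exact he3.2.2 ((hO e2 e3).2 ⟨i, hi⟩)
  · intro d hd hd0
    have h1 : (⟨d, hd⟩ : D) ∈ insert 1 (O e1 ∪ O e2 ∪ O e3) := by rw [hun]; exact Finset.mem_univ _
    rw [Finset.mem_insert, Finset.mem_union, Finset.mem_union] at h1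
    rcases h1 with h1 | (h1 | h1) | h1
    · exact (hd0 (congrArg Subtype.val h1)).elim
    · exact Or.inl ((hO e1 _).1 h1)
    · exact Or.inr (Or.inl ((hO e2 _).1 h1))
    · exact Or.inr (Or.inr ((hO e3 _).1 h1))

end Cfsg.Agent.H196.KS
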